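import Cfsg.Agent.H144.Odm.DoNum
import Cfsg.Agent.H264.FKS.ResCore
import Cfsg.Agent.H453.OddM.RealOrth
import Cfsg.Agent.H729.OdmChar

/-!
# S4785 (TEAM ODDM), DO-NUM: the version with `Cov` (helper144)

`cov_res_plus`, `cov_res_minus`: a proper subgroup `R` of `T = PΩ^±_{2m}(q)`, `m ≥ 5` odd, `q` odd, of odd index, meeting
all real classes, with a residual core: the socle is `PSp_{2(m-1)}(q)` or `Ω_{2m-1}(q)`.
-/

set_option autoImplicit false

namespace Cfsg.Agent.H144.Odm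

open Cfsg Cfsg.Geo Cfsg.Agent.OrdDiv Cfsg.Agent.H436 Cfsg.Agent.H915.GN Cfsg.Agent.H264.GN Cfsg.Agent.H264.FKS
  Cfsg.Agent.H884.Cx
open Cfsg.Agent.H453.OddM
open Cfsg.Agent.LieClassical.OrthCore Cfsg.Agent.LieClassical.OrthFinite Cfsg.Agent.LieClassical.OrthForms
open Cfsg.Agent

section

variable {T : Type} [Group T] [Finite T] {q m p : ℕ} {R : Subgroup T}

/-- the primes of the chain divide `|R|` -/
theorem ch_dvd (hc : Cov T R) (h2 : 2 ∣ Nat.card T)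
    (hreal : ∀ d v : ℕ, d ≠ 0 → d < m → Odd v → (v ∣ q ^ d - 1 ∨ v ∣ q ^ d + 1) → RealP T v) (hm : 1 ≤ m) {r : ℕ}
    (hr : Ch q m r) : r ∣ Nat.card R := by
  obtain ⟨hrp, i, h1, h3, h4⟩ := hr
  rcases hrp.eq_two_or_odd' with rfl | ho
  · have := (hc.two_part (k := 1)).1 (by simpa using h2)
    simpa using this
  · refine hc.dvd (hreal i r (by omega) (by omega) ho ?_)
    have h5 : q ^ (2 * i) - 1 = (q ^ i + 1) * (q ^ i - 1) := by
      rw [mul_comm 2 i, pow_mul]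
      have := Nat.sq_sub_sq (q ^ i) 1
      rwa [one_pow] at this
    rw [h5] at h4
    exact (hrp.dvd_mul.1 h4).symm

/-- **The numerics, with `Cov`.** -/
theorem cov_main {gT : Grp} (hT : IsNamed gT T) (hgT : gT = .oplus m q ∨ gT = .ominus m q) (hm : 5 ≤ m)
    (hmo : m % 2 = 1) (hp : p.Prime) (hp2 : p ≠ 2) (hpq : p ∣ q) (hR : R ≠ ⊤) (hc : Cov T R)
    (hreal : ∀ d v : ℕ, d ≠ 0 → d < m → Odd v → (v ∣ q ^ d - 1 ∨ v ∣ q ^ d + 1) → RealP T v) (hrp : RealP T p)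
    (S : Subgroup R) [S.Normal] [IsSimpleGroup S] (hna : ¬ IsMulCommutative S)
    (hC : Subgroup.centralizer (S : Set R) = ⊥)
    {ι : Type} [Fintype ι] [DecidableEq ι] {F : Type} [Field F] [Finite F] [CharP F p]
    (hι : Fintype.card ι = 2 * m) {P : Subgroup (GL ι F)}
    (hP : ⁅P, P⁆ = P) (e : S ≃* P ⧸ (Geo.scalars ι F).subgroupOf P) {g : Grp} (hS : IsNamed g S) :
    g = .psp (m - 1) q ∨ g = .oodd (m - 1) q := by
  have hqp : IsPrimePow q := by
    rcases hgT with rfl | rfl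
    · exact hT.cond.2
    · exact hT.cond.2
  have hq2 := hqp.two_le
  have hqo : q % 2 = 1 := by
    obtain ⟨k, hk, rfl⟩ := exists_pf hp hqp hpq
    exact Nat.odd_iff.1 ((hp.odd_of_ne_two hp2).pow)
  have h2 : 2 ∣ Nat.card T := by
    refine Dvd.dvd.trans ?_ (prB_dvd_T hq2 (by omega) hT hgT)
    rw [prB_eq]
    refine Dvd.dvd.trans ?_ (Finset.dvd_prod_of_mem _ (Finset.mem_range.2 (show 0 < m - 1 by omega)))
    have h3 : (q ^ (2 * (0 + 1))) % 2 = 1 := by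
      rw [Nat.pow_mod, hqo]
    omega
  exact num_main hT hgT hm hmo hp hp2 hpq hR (fun k hk => hc.two_part.1 hk) (hc.dvd hrp)
    (fun r hr => ch_dvd hc h2 hreal (by omega) hr) S hna hC hι hP e hS

end

section

variable {F : Type} [Field F] [Fintype F] {m : ℕ}

/-- **`PΩ^+_{2m}(q)`, `m ≥ 5` odd, `q` odd.** -/
theorem cov_res_plus (hm : 5 ≤ m) (hmo : m % 2 = 1) (hodd : Odd (Fintype.card F))
    {R : Subgroup (POmega F (quadFormPlus m F))} (hR : R ≠ ⊤) (hc : Cov (POmega F (quadFormPlus m F)) R)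
    (S : Subgroup R) [S.Normal] [IsSimpleGroup S] (hna : ¬ IsMulCommutative S)
    (hC : Subgroup.centralizer (S : Set R) = ⊥) {P : Subgroup (GL (Fin m ⊕ Fin m) F)} (hP : ⁅P, P⁆ = P)
    (e : S ≃* P ⧸ (Geo.scalars (Fin m ⊕ Fin m) F).subgroupOf P) {g : Grp} (hS : IsNamed g S) :
    g = .psp (m - 1) (Fintype.card F) ∨ g = .oodd (m - 1) (Fintype.card F) := by
  obtain ⟨p, hchar⟩ := CharP.exists F
  obtain ⟨n, hp, hn⟩ := FiniteField.card F p
  have h2 := two_ne_zero_of_odd hodd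
  have hp2 : p ≠ 2 := by
    rintro rfl
    exact h2 (CharP.cast_eq_zero F 2)
  have hpq : p ∣ Fintype.card F := hn ▸ dvd_pow_self p n.ne_zero
  have hfin : Finite (POmega F (quadFormPlus m F)) := Quotient.finite _
  refine cov_main (named_oplus (F := F) (by omega)) (Or.inl rfl) hm hmo hp hp2 hpq hR hc
    (fun d v hd hdm hv h => realP_oplus h2 (by omega) hd hdm hv h) ?_ S hna hC
    (by rw [Fintype.card_sum, Fintype.card_fin]; exact (two_mul m).symm) hP e hS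
  rw [← coe_plusForm]
  exact H729.OdmChar.realP_char h2 (hp.odd_of_ne_two hp2) (nondeg_plusForm m F)
    (by simp only [Fintype.card_sum, Fintype.card_fin]; omega)

/-- **`PΩ^-_{2m}(q)`, `m ≥ 5` odd, `q` odd.** -/
theorem cov_res_minus {a b : F} (hab : ∀ z₁ z₂ : F, z₁ ^ 2 + a * z₁ * z₂ + b * z₂ ^ 2 = 0 → z₁ = 0 ∧ z₂ = 0)
    (hm : 5 ≤ m) (hmo : m % 2 = 1) (hodd : Odd (Fintype.card F))
    {R : Subgroup (POmega F (quadFormMinus (m - 1) F a b))} (hR : R ≠ ⊤)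
    (hc : Cov (POmega F (quadFormMinus (m - 1) F a b)) R)
    (S : Subgroup R) [S.Normal] [IsSimpleGroup S] (hna : ¬ IsMulCommutative S)
    (hC : Subgroup.centralizer (S : Set R) = ⊥) {P : Subgroup (GL ((Fin (m - 1) ⊕ Fin (m - 1)) ⊕ Fin 2) F)}
    (hP : ⁅P, P⁆ = P) (e : S ≃* P ⧸ (Geo.scalars ((Fin (m - 1) ⊕ Fin (m - 1)) ⊕ Fin 2) F).subgroupOf P) {g : Grp}
    (hS : IsNamed g S) : g = .psp (m - 1) (Fintype.card F) ∨ g = .oodd (m - 1) (Fintype.card F) := by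
  obtain ⟨p, hchar⟩ := CharP.exists F
  obtain ⟨n, hp, hn⟩ := FiniteField.card F p
  have h2 := two_ne_zero_of_odd hodd
  have hp2 : p ≠ 2 := by
    rintro rfl
    exact h2 (CharP.cast_eq_zero F 2)
  have hpq : p ∣ Fintype.card F := hn ▸ dvd_pow_self p n.ne_zero
  have hfin : Finite (POmega F (quadFormMinus (m - 1) F a b)) := Quotient.finite _
  refine cov_main (named_ominus (F := F) (by omega) hab) (Or.inr rfl) hm hmo hp hp2 hpq hR hc
    (fun d v hd hdm hv h => realP_ominus h2 hab (by omega) hd hdm hv h) ?_ S hna hC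
    (by
      rw [Fintype.card_sum, Fintype.card_sum, Fintype.card_fin, Fintype.card_fin]
      omega) hP e hS
  rw [← coe_minusForm]
  exact H729.OdmChar.realP_char h2 (hp.odd_of_ne_two hp2) (nondeg_minusForm (m - 1) F a b hab)
    (by simp only [Fintype.card_sum, Fintype.card_fin]; omega)

/-! ### with the socle -/

/-- **`PΩ^+_{2m}(q)`: the residual class.** -/
theorem res_plus (tab : OrderTable.{0}) (hK : ∀ (X : Type) [Group X] [Finite X] [IsSimpleGroup X],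
    Cfsg.IsKnownSimple' X) (hm : 5 ≤ m) (hmo : m % 2 = 1) (hodd : Odd (Fintype.card F))
    {R : Subgroup (POmega F (quadFormPlus m F))} (hR : R ≠ ⊤) (hc : Cov (POmega F (quadFormPlus m F)) R)
    {P : Subgroup (GL (Fin m ⊕ Fin m) F)} (hP : IsResidualCore (preO (quadFormPlus m F) R) P) :
    ∃ (S : Type) (_ : Group S), Nonempty (S ≃* P ⧸ (Geo.scalars (Fin m ⊕ Fin m) F).subgroupOf P) ∧
      (IsNamed (.oodd (m - 1) (Fintype.card F)) S ∨ IsNamed (.psp (m - 1) (Fintype.card F)) S) := by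
  have hfin : Finite (POmega F (quadFormPlus m F)) := Quotient.finite _
  obtain ⟨S, hSn, hSs, hna, hC, ⟨e⟩⟩ := exists_res_plus (by omega) (M := R) hP
  obtain ⟨g, hg⟩ := exists_named tab (hK S) fun h => hna ⟨⟨h⟩⟩
  refine ⟨S, inferInstance, ⟨e⟩, ?_⟩
  rcases cov_res_plus hm hmo hodd hR hc S hna hC hP.perfect e hg with rfl | rfl
  · exact Or.inr hg
  · exact Or.inl hg

/-- **`PΩ^-_{2m}(q)`: the residual class.** -/
theorem res_minus (tab : OrderTable.{0}) (hK : ∀ (X : Type) [Group X] [Finite X] [IsSimpleGroup X],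
    Cfsg.IsKnownSimple' X) {a b : F} (hab : ∀ z₁ z₂ : F, z₁ ^ 2 + a * z₁ * z₂ + b * z₂ ^ 2 = 0 → z₁ = 0 ∧ z₂ = 0)
    (hm : 5 ≤ m) (hmo : m % 2 = 1) (hodd : Odd (Fintype.card F))
    {R : Subgroup (POmega F (quadFormMinus (m - 1) F a b))} (hR : R ≠ ⊤)
    (hc : Cov (POmega F (quadFormMinus (m - 1) F a b)) R)
    {P : Subgroup (GL ((Fin (m - 1) ⊕ Fin (m - 1)) ⊕ Fin 2) F)}
    (hP : IsResidualCore (preO (quadFormMinus (m - 1) F a b) R) P) :
    ∃ (S : Type) (_ : Group S),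
      Nonempty (S ≃* P ⧸ (Geo.scalars ((Fin (m - 1) ⊕ Fin (m - 1)) ⊕ Fin 2) F).subgroupOf P) ∧
      (IsNamed (.oodd (m - 1) (Fintype.card F)) S ∨ IsNamed (.psp (m - 1) (Fintype.card F)) S) := by
  have hfin : Finite (POmega F (quadFormMinus (m - 1) F a b)) := Quotient.finite _
  obtain ⟨S, hSn, hSs, hna, hC, ⟨e⟩⟩ := exists_res_minus (by omega) a b hab (M := R) hP
  obtain ⟨g, hg⟩ := exists_named tab (hK S) fun h => hna ⟨⟨h⟩⟩
  refine ⟨S, inferInstance, ⟨e⟩, ?_⟩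
  rcases cov_res_minus hab hm hmo hodd hR hc S hna hC hP.perfect e hg with rfl | rfl
  · exact Or.inr hg
  · exact Or.inl hg

end

end Cfsg.Agent.H144.Odm
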