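import Cfsg.Agent.H144.Odm.Num
import Cfsg.Agent.H144.Odm.CharP
import Cfsg.Agent.H144.Odm.Two
import Cfsg.Agent.H278.ElAsm

/-!
# S4785 (TEAM ODDM), DO-NUM: `PΩ^±_{2m}(q)`, `m ≥ 5` odd, `q` odd, all socles (helper144)

`num_main`: `R < T = PΩ^±_{2m}(q)` almost simple with socle `S`, `|R|_2 = |T|_2`, `|R|` divisible by `p` and by all the
primes of `q ^ (2 i) - 1`, `i ≤ m - 1`: then `S` is `PSp_{2(m-1)}(q)` or `Ω_{2m-1}(q)`.
-/

set_option autoImplicit false

namespace Cfsg.Agent.H144.Odm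

open Cfsg Cfsg.Geo Cfsg.Agent.OrdDiv Cfsg.Agent.H436 Cfsg.Agent.H915.GN Cfsg.Agent.H264.FKS Cfsg.Agent.H884.Cx
open Cfsg.Agent.H278.El.ResRow
open Cfsg.Agent.H927.SgX (lsb IsLieN)
open Cfsg.Agent

/-- the Monster does not divide the order of `PΩ^±_{10}(3)` -/
theorem monster : ∀ x ∈ spor, x.1 = .m → ¬ x.2 ∣ num (.oplus 5 3) ∧ ¬ x.2 ∣ num (.ominus 5 3) := by decide +kernel

section

variable {T : Type} [Group T] [Finite T] {gT : Grp} {q m p : ℕ} {R : Subgroup T}

/-- **The numerics.** -/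
theorem num_main (hT : IsNamed gT T) (hgT : gT = .oplus m q ∨ gT = .ominus m q) (hm : 5 ≤ m) (hmo : m % 2 = 1)
    (hp : p.Prime) (hp2 : p ≠ 2) (hpq : p ∣ q) (hR : R ≠ ⊤)
    (hR2 : ∀ k : ℕ, 2 ^ k ∣ Nat.card T → 2 ^ k ∣ Nat.card R) (hRp : p ∣ Nat.card R)
    (hRr : ∀ r : ℕ, Ch q m r → r ∣ Nat.card R) (S : Subgroup R) [S.Normal] [IsSimpleGroup S]
    (hna : ¬ IsMulCommutative S) (hC : Subgroup.centralizer (S : Set R) = ⊥)
    {ι : Type} [Fintype ι] [DecidableEq ι] {F : Type} [Field F] [Finite F] [CharP F p]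
    (hι : Fintype.card ι = 2 * m) {P : Subgroup (GL ι F)}
    (hP : ⁅P, P⁆ = P) (e : S ≃* P ⧸ (Geo.scalars ι F).subgroupOf P) {g : Grp} (hS : IsNamed g S) :
    g = .psp (m - 1) q ∨ g = .oodd (m - 1) q := by
  have hqp : IsPrimePow q := by
    rcases hgT with rfl | rfl
    · exact hT.cond.2
    · exact hT.cond.2
  obtain ⟨k, hk, rfl⟩ := exists_pf hp hqp hpq
  have hq2 : 2 ≤ p ^ k := hqp.two_le
  have hna' := not_comm hna
  have hdvd : Nat.card S ∣ num gT := IsNamed.card_dvd hT S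
  rcases H278.El.Asm.name_cases g with ⟨n, rfl⟩ | ⟨x, hx, rfl⟩ | hlie
  · -- alternating
    exfalso
    obtain ⟨e1⟩ := hS.real
    have hn : 5 ≤ n := hS.cond
    refine alt_num' (n := n) hq2 hm (fun r hr => ?_) fun h9 => ?_
    · have h1 := (hRr r hr).trans (dvd_aut S hC)
      rw [Nat.card_congr (MulAut.congr e1).toEquiv] at h1
      exact prime_le hn hr.1 h1
    · rw [← hι]
      exact alt_bound P _ h9 (e.symm.trans e1)
  · -- sporadic
    exfalso
    have h1 : Nat.card S = x.2 := by rw [hS.ord, ord_of_spor x hx]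
    have h2 : ∀ u : ℕ, u.Prime → u ∣ Nat.card R → u ∣ x.2 := by
      intro u hu hd
      rw [← h1]
      refine H290.ElFin.prime_dvd_of_oddInn hC (H290.ElFin.oddInn_of_spor hx hS.real) ?_ hu hd
      rw [h1]
      exact (show 2 ∣ 6 by norm_num).trans (H290.ElFin.six_dvd x hx)
    obtain ⟨h3, h4, h5⟩ := spor_num' hx hp hp2 hk hm (h2 p hp hRp) fun r hr => h2 r hr.1 (hRr r hr)
    rw [h4] at hgT
    subst h5
    have h6 := monster x hx h3
    rw [h1] at hdvd
    rcases hgT with rfl | rfl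
    · exact h6.1 hdvd
    · exact h6.2 hdvd
  · obtain ⟨s, hs, hch⟩ := H278.El.Asm.exists_char hS.cond hlie
    by_cases hsp : s = p
    · -- the characteristic of `T`
      subst hsp
      have hHS : ∀ i, 1 ≤ i → i ≤ m - 1 → 3 ≤ 2 * i → HS s k (2 * i) g (Nat.card S) := fun i h1 h2 h3 =>
        HS.of S hna hC hp hS hch h3 fun r hr => hRr r (Ch.of hr.prime h1 h2 (hr.dvd dvd_rfl))
      have hTd : prB (s ^ k) (m - 1) ∣ Nat.card T := prB_dvd_T hq2 (by omega) hT hgT
      have key : (g = .psl (m - 1) (s ^ (2 * k)) ∨ g = .psp (m - 1) (s ^ k) ∨ g = .oodd (m - 1) (s ^ k) ∨ g = gT ∨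
          g = .ominus (m - 1) (s ^ k)) := by
        rcases hgT with rfl | rfl
        · exact charp_oplus' hp hp2 hk hm hS.cond hch hS.eq hdvd (hHS _ (by omega) le_rfl (by omega))
            (hHS _ (by omega) (by omega) (by omega))
        · exact charp_ominus' hp hp2 hk hm hmo hS.cond hch hS.eq hdvd (hHS _ (by omega) le_rfl (by omega))
            (hHS _ (by omega) (by omega) (by omega))
      rcases key with rfl | h | h | rfl | rfl
      · exact (not_psl_two hp hp2 hk hm hR2 hTd S hC hS).elim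
      · exact Or.inl h
      · exact Or.inr h
      · exact (hR (eq_top_of_name hT hS)).elim
      · exact (not_ominus_two hp hp2 hk hm hmo hR2 hTd S hC hS).elim
    · -- cross characteristic
      exfalso
      obtain ⟨f, hf⟩ := fs_char hch
      have hdv : ∀ r : ℕ, r.Prime → 5 ≤ r → r ∣ Nat.card R → r ∣ Nat.card S ∨ r ∣ f := by
        intro r hr h5 h1
        have h2 := h1.trans (dvd_aut S hC)
        rw [← H934.OutB.card_out_mul S hna] at h2
        rcases hr.dvd_mul.1 h2 with h3 | h3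
        · rcases dvd_of_out' hna' hs hS hch hr h5 h3 with h4 | h4
          · exact .inl h4
          · exact .inr (h4 f hf)
        · exact .inl h3
      refine cross_num' hS.cond hlie (fs_pp hS.cond hlie) hS.eq hs hf hp hp2 hk hm (fun h5 => hdv p hp h5 hRp)
        (fun r hr h5 => hdv r hr.1 h5 (hRr r hr)) ?_
      rw [← hι]
      obtain ⟨e2⟩ := exists_quot (P := P)
      have hex : ∃ x y : S, x * y ≠ y * x := by
        by_contra h
        push Not at h
        exact hna' h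
      refine lb_le hS.cond hs hch hex hS.real ?_ (P.map (toFin ι F).toMonoidHom) (perfect_map hP) (e2.trans e.symm)
      intro h0
      have h1 : p ∣ s := (CharP.cast_eq_zero_iff F p s).1 h0
      exact hsp ((Nat.prime_dvd_prime_iff_eq hp hs).1 h1).symm

end

end Cfsg.Agent.H144.Odm
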