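import Cfsg.Agent.H884.CxMain

/-!
# S4785 (TEAM ODDM), `PΩ^±_{2m}(q)`, `m` odd, `q` odd: numerics (helper144)

Only the primes of `q ^ (2 i) - 1`, `i ≤ m - 1`, and the characteristic are used.

* `crude'`, `large'`: the Landazuri-Seitz bound of the socle is at most `23`;
* `chkO_ok`: the finite check (the exponents `2, 4, 6, 8` are enough);
* `cross_num'`: no group of Lie type in cross characteristic survives;
* `spor_num'`: no sporadic group survives (except the Monster for `q = 3`);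
* `alt_num'`: no alternating group survives.
-/

set_option autoImplicit false

namespace Cfsg.Agent.H144.Odm

open Cfsg.Agent.OrdDiv Cfsg.Agent.H436 Cfsg.Agent.H927.SgX Cfsg.Agent.H278.El.Num Cfsg.Agent.H278.El.SporNum
open Cfsg.Agent.H884.Cx

/-- the primes of `Sp_{2(m-1)}(q)` prime to `q` -/
def Ch (q m r : ℕ) : Prop := r.Prime ∧ ∃ i, 1 ≤ i ∧ i ≤ m - 1 ∧ r ∣ q ^ (2 * i) - 1

theorem Ch.of {q m r i : ℕ} (hr : r.Prime) (h1 : 1 ≤ i) (h2 : i ≤ m - 1) (h : r ∣ q ^ (2 * i) - 1) : Ch q m r :=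
  ⟨hr, i, h1, h2, h⟩

/-- **The crude bound**, only with the primes in `Ch`. -/
theorem crude' {q m N : ℕ} (hq : 2 ≤ q) (hN : N ≠ 0) (h : ∀ r : ℕ, Ch q m r → 5 ≤ r → r ∣ N) (hm : 12 ≤ m) :
    4 ^ (2 * m) ≤ N := by
  obtain ⟨k, hk⟩ : ∃ k, m = 12 + k := ⟨m - 12, by omega⟩
  have h1 := EA_prod k
  have h2 : ∏ e ∈ EA (12 + k), wt e ≤ N := by
    refine prod_le (q := q) hN fun e hmem => ?_
    simp only [EA, Finset.mem_filter, Finset.mem_range] at hmem
    obtain ⟨he1, he3, he6, he7⟩ := hmem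
    obtain ⟨r, hr⟩ := exists_prim hq he3 fun h => he6 h.2
    refine ⟨r, hr, h r ?_ (five_le hr he3), wt_le hr he3⟩
    rcases Nat.even_or_odd' e with ⟨j, hj | hj⟩
    · exact Ch.of hr.prime (i := j) (by omega) (by omega) (hr.dvd (by rw [hj]))
    · have := he7 (by omega)
      exact Ch.of hr.prime (i := e) (by omega) (by omega) (hr.dvd (Dvd.intro_left _ rfl))
  calc 4 ^ (2 * m) ≤ 4 ^ (2 * (12 + k) + 1) := Nat.pow_le_pow_right (by norm_num) (by omega)
    _ ≤ _ := h1.trans h2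

theorem large' {g : Grp} (hg : Cond g) (hlie : IsLieN g) {cS : ℕ} (hS : den g * cS = num g) {q m : ℕ} (hq : 2 ≤ q)
    {f : ℕ} (hf : f ≤ fs g) (hf0 : f ≠ 0) (h : ∀ r : ℕ, Ch q m r → 5 ≤ r → r ∣ cS ∨ r ∣ f) (hL : lsb g ≤ 2 * m) :
    lsb g ≤ 23 := by
  by_contra hcon
  push Not at hcon
  have h1 := fam_lt hg hlie hcon
  have h2 := crude' hq (N := f * XX g) (Nat.mul_ne_zero hf0 (XX_ne hg hlie)) (fun r hr h5 => by
    rcases h r hr h5 with h3 | h3
    · exact (XX_dvd_card hlie hS hr.1 h3).mul_left _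
    · exact h3.mul_right _) (by omega)
  have h3 : 4 ^ lsb g ≤ 4 ^ (2 * m) := Nat.pow_le_pow_right (by norm_num) hL
  have h4 : f * XX g ≤ fs g * XX g := Nat.mul_le_mul_right _ hf
  omega

/-! ### the finite check -/

/-- `q ^ 2 - 1`, ..., `q ^ 8 - 1` have only prime divisors of `N` -/
def ck (N q : ℕ) : Bool := sm N (q ^ 2 - 1) && (sm N (q ^ 4 - 1) && (sm N (q ^ 6 - 1) && sm N (q ^ 8 - 1)))

/-- no odd `q = p ^ (j + 1)`, `p ∣ N`, passes `ck` -/
def chkO (N : ℕ) : Bool := ps73.all fun p => (Nat.beq p 2 || !(Nat.beq (N % p) 0)) ||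
  (List.range 9).all fun j => !(ck N (p ^ (j + 1)))

set_option maxRecDepth 100000 in
theorem small_ok : (small.all fun x => chkO x.2) = true := by decide +kernel

theorem sm_chain {N p f m i : ℕ} (hN0 : N ≠ 0) (hN : ∀ u : ℕ, u.Prime → u ∣ N → u ≤ 73) (hp : p.Prime) (hf : 1 ≤ f)
    (hp73 : p ≤ 73) (h : ∀ r : ℕ, Ch (p ^ f) m r → r ∣ N) (h1 : 1 ≤ i) (h2 : i ≤ m - 1) :
    f * (2 * i) ≤ 72 ∧ sm N ((p ^ f) ^ (2 * i) - 1) = true := by
  have := sm_sub' hN0 hN hp hp73 (e := f * (2 * i)) (by nlinarith) (by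
    rw [pow_mul]
    exact fun u hu hd => h u (Ch.of hu h1 h2 hd))
  rwa [pow_mul] at this

theorem ck_of {N p f m : ℕ} (hN0 : N ≠ 0) (hN : ∀ u : ℕ, u.Prime → u ∣ N → u ≤ 73) (hp : p.Prime) (hf : 1 ≤ f)
    (hpN : p ∣ N) (hm : 5 ≤ m) (h : ∀ r : ℕ, Ch (p ^ f) m r → r ∣ N) :
    p ≤ 73 ∧ f ≤ 9 ∧ ck N (p ^ f) = true := by
  have hp73 := hN p hp hpN
  have h8 := sm_chain hN0 hN hp hf hp73 h (i := 4) (by norm_num) (by omega)
  refine ⟨hp73, by omega, ?_⟩
  unfold ck
  rw [(sm_chain hN0 hN hp hf hp73 h (i := 1) (by norm_num) (by omega)).2,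
    (sm_chain hN0 hN hp hf hp73 h (i := 2) (by norm_num) (by omega)).2,
    (sm_chain hN0 hN hp hf hp73 h (i := 3) (by norm_num) (by omega)).2, h8.2]
  rfl

theorem chkO_false {N p f m : ℕ} (hN0 : N ≠ 0) (hN : ∀ u : ℕ, u.Prime → u ∣ N → u ≤ 73) (hp : p.Prime)
    (hp2 : p ≠ 2) (hf : 1 ≤ f) (hpN : p ∣ N) (hm : 5 ≤ m) (h : ∀ r : ℕ, Ch (p ^ f) m r → r ∣ N)
    (hc : chkO N = true) : False := by
  obtain ⟨hp73, hf9, hck⟩ := ck_of hN0 hN hp hf hpN hm h
  unfold chkO at hc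
  rw [List.all_eq_true] at hc
  have h1 := hc p (ps73_of hp hp73)
  rw [Bool.or_eq_true, Bool.or_eq_true] at h1
  rcases h1 with (h1 | h1) | h1
  · rw [Nat.beq_eq] at h1
    exact hp2 h1
  · rw [Nat.mod_eq_zero_of_dvd hpN] at h1
    exact absurd h1 (by decide)
  · rw [List.all_eq_true] at h1
    have h2 := h1 (f - 1) (List.mem_range.2 (by omega))
    rw [Nat.sub_add_cancel hf, hck] at h2
    exact absurd h2 (by decide)

/-- **Cross characteristic.** -/
theorem cross_num' {g : Grp} (hg : Cond g) (hlie : IsLieN g) (hpp : IsPrimePow (fs g)) {cS : ℕ}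
    (hS : den g * cS = num g) {s f : ℕ} (hs : s.Prime) (hf : fs g = s ^ f) {p k m : ℕ} (hp : p.Prime) (hp2 : p ≠ 2)
    (hk : 1 ≤ k) (hm : 5 ≤ m) (hpS : 5 ≤ p → p ∣ cS ∨ p ∣ f)
    (h : ∀ r : ℕ, Ch (p ^ k) m r → 5 ≤ r → r ∣ cS ∨ r ∣ f) (hL : lb g ≤ 2 * m) : False := by
  have hq2 : 2 ≤ p ^ k := hp.two_le.trans (Nat.le_self_pow (by omega) _)
  have hf0 : f ≠ 0 := by
    rintro rfl
    rw [pow_zero] at hf
    rw [hf] at hpp
    exact absurd hpp not_isPrimePow_one
  have hin : inS g = true := by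
    by_cases hM : g ∈ excM
    · exact excM_small g hM
    · refine inS_of hg hlie (large' hg hlie hS hq2 (f := f) ?_ hf0 h ?_)
      · rw [hf]; exact (Nat.lt_pow_self hs.one_lt).le
      · unfold lb at hL
        rwa [if_neg hM] at hL
  obtain ⟨N, hN⟩ := inS_spec hin
  have haux := auxS_ok
  rw [List.all_eq_true] at haux
  have ha := haux _ hN
  unfold auxS at ha
  simp only [Bool.and_eq_true, Bool.or_eq_true, Nat.beq_eq, Bool.not_eq_true', Nat.blt_eq] at ha
  obtain ⟨h1, h2, ⟨h3, h4⟩, h5⟩ := ha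
  have hN0 : N ≠ 0 := by
    rintro rfl
    rw [Nat.mod_zero] at h3
    exact absurd h3 (Nat.factorial_ne_zero 73)
  have hN73 : ∀ u : ℕ, u.Prime → u ∣ N → u ≤ 73 := fun u hu hd =>
    (hu.dvd_factorial).1 (hd.trans (Nat.dvd_of_mod_eq_zero h3))
  have h6 : 6 ∣ N := Nat.dvd_of_mod_eq_zero h2
  have key : ∀ u : ℕ, u.Prime → (5 ≤ u → u ∣ cS ∨ u ∣ f) → u ∣ N := by
    intro u hu huc
    rcases Nat.lt_or_ge u 5 with hu5 | hu5
    · have hu2 := hu.two_le
      interval_cases u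
      · exact (by norm_num : 2 ∣ 6).trans h6
      · exact (by norm_num : 3 ∣ 6).trans h6
      · exact absurd hu (by norm_num)
    · rcases huc hu5 with h6 | h6
      · have h7 := XX_dvd_card hlie hS hu h6
        exact hu.dvd_of_dvd_pow (h7.trans (Nat.dvd_of_mod_eq_zero h1))
      · have h7 : 5 ≤ f := hu5.trans (Nat.le_of_dvd (Nat.pos_of_ne_zero hf0) h6)
        have h8 : s < 3 := by
          by_contra hcc
          have : 3 ^ 5 ≤ s ^ f := (Nat.pow_le_pow_left (by omega) 5).trans (Nat.pow_le_pow_right (by omega) h7)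
          omega
        have h9 : s = 2 := by have := hs.two_le; omega
        subst h9
        have h10 : f < 6 := by
          by_contra hcc
          have : 2 ^ 6 ≤ 2 ^ f := Nat.pow_le_pow_right (by norm_num) (by omega)
          omega
        have h11 : f = 5 := by omega
        subst h11
        have h12 : u = 5 := by
          have := Nat.le_of_dvd (by norm_num) h6
          omega
        subst h12
        rcases h4 with h4 | h4
        · rw [hf] at h4
          exact absurd h4 (by decide)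
        · exact Nat.dvd_of_mod_eq_zero h4
  have hall := small_ok
  rw [List.all_eq_true] at hall
  have hgN : chkO (g, N).2 = true := hall _ hN
  exact chkO_false hN0 hN73 hp hp2 hk (key p hp hpS) hm (fun r hr => key r hr.1 (h r hr)) hgN

/-! ### sporadic groups -/

/-- the check: no survivor, except the Monster with `q = 3` -/
def chkOS (x : Grp × ℕ) : Bool := ps73.all fun p => (Nat.beq p 2 || !(Nat.beq (x.2 % p) 0)) ||
  (List.range 9).all fun j => !(ck x.2 (p ^ (j + 1))) || (decide (x.1 = .m) && Nat.beq (p ^ (j + 1)) 3)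

set_option maxRecDepth 100000 in
theorem spor_ok : (spor.all chkOS) = true := by decide +kernel

theorem spor_num' {x : Grp × ℕ} (hx : x ∈ spor) {p k m : ℕ} (hp : p.Prime) (hp2 : p ≠ 2)
    (hk : 1 ≤ k) (hm : 5 ≤ m) (hpS : p ∣ x.2) (h : ∀ r : ℕ, Ch (p ^ k) m r → r ∣ x.2) :
    x.1 = .m ∧ p ^ k = 3 ∧ m = 5 := by
  have hN0 : x.2 ≠ 0 := spor_ne hx
  have hN73 : ∀ u : ℕ, u.Prime → u ∣ x.2 → u ≤ 73 := fun u hu hd => (le_71 hx hu hd).trans (by norm_num)
  obtain ⟨hp73, hf9, hck⟩ := ck_of hN0 hN73 hp hk hpS hm h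
  have hc := spor_ok
  rw [List.all_eq_true] at hc
  have hc := hc x hx
  unfold chkOS at hc
  rw [List.all_eq_true] at hc
  have h1 := hc p (ps73_of hp hp73)
  rw [Bool.or_eq_true, Bool.or_eq_true] at h1
  rcases h1 with (h1 | h1) | h1
  · rw [Nat.beq_eq] at h1
    exact absurd h1 hp2
  · rw [Nat.mod_eq_zero_of_dvd hpS] at h1
    exact absurd h1 (by decide)
  · rw [List.all_eq_true] at h1
    have h2 := h1 (k - 1) (List.mem_range.2 (by omega))
    rw [Nat.sub_add_cancel hk, hck, Bool.not_true, Bool.false_or, Bool.and_eq_true, Nat.beq_eq,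
      decide_eq_true_eq] at h2
    refine ⟨h2.1, h2.2, ?_⟩
    by_contra hm5
    -- `61 ∣ 3 ^ 10 - 1`
    have h3 : 61 ∣ x.2 := h 61 (Ch.of (by norm_num) (i := 5) (by norm_num) (by omega) (by rw [h2.2]; decide))
    have key : ∀ x ∈ spor, x.1 = .m → ¬ 61 ∣ x.2 := by decide +kernel
    exact key x hx h2.1 h3

/-! ### alternating groups -/

theorem alt_num' {q m n : ℕ} (hq : 2 ≤ q) (hm : 5 ≤ m) (h : ∀ r : ℕ, Ch q m r → r ≤ n)
    (hn : 9 ≤ n → n ≤ 2 * m + 2) : False := by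
  have hkey : ∀ e r, (∃ i, 1 ≤ i ∧ i ≤ m - 1 ∧ e = 2 * i) → Prim q e r → r ≤ n := by
    rintro e r ⟨i, h1, h2, rfl⟩ hr
    exact h r (Ch.of hr.prime h1 h2 (hr.dvd dvd_rfl))
  -- `r_8 ≥ 17`
  have h17 : 17 ≤ n := by
    obtain ⟨r, hr⟩ := exists_prim hq (show 3 ≤ 8 by norm_num) (fun h => by omega)
    have h1 := hkey 8 r ⟨4, by norm_num, by omega, rfl⟩ hr
    obtain ⟨c, hc⟩ := prim_dvd_pred hr
    have h2 := hr.prime.two_le
    rcases Nat.lt_or_ge c 2 with h3 | h3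
    · interval_cases c
      · omega
      · have : r = 9 := by omega
        rw [this] at hr
        exact absurd hr.prime (by norm_num)
    · omega
  have hn' := hn (by omega)
  rcases Cfsg.Agent.H278.El.AltNum.three_cases (m - 1) (by omega) with h3 | h3 | h3
  · exact Cfsg.Agent.H278.El.AltNum.no_three (e := 2 * (m - 1)) (m := n) hq (by omega) h3 (by omega)
      fun r hr => hkey _ r ⟨m - 1, by omega, by omega, rfl⟩ hr
  · exact Cfsg.Agent.H278.El.AltNum.no_three (e := 2 * (m - 1 - 1)) (m := n) hq (by omega) h3 (by omega)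
      fun r hr => hkey _ r ⟨m - 1 - 1, by omega, by omega, rfl⟩ hr
  · exact Cfsg.Agent.H278.El.AltNum.no_three (e := 2 * (m - 1 - 2)) (m := n) hq (by omega) h3 (by omega)
      fun r hr => hkey _ r ⟨m - 1 - 2, by omega, by omega, rfl⟩ hr

end Cfsg.Agent.H144.Odm
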